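import Groth.Agent.SekSuwaOrd.Order
import Groth.Agent.DeligneKillLib.Affine
import Groth.Agent.DiagRepLib.Scheme
import Groth.Prelude.Def_TwC
import Groth.Prelude.Def_ActBC

/-! Finite flat groups with constant generic fibre of prime order over a discrete valuation ring. -/

set_option autoImplicit false
set_option linter.all false
set_option backward.isDefEq.respectTransparency false
set_option backward.isDefEq.respectTransparency.types false
set_option maxHeartbeats 1600000

noncomputable section

universe u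

open CategoryTheory CategoryTheory.Limits MonoidalCategory CartesianMonoidalCategory AlgebraicGeometry CoactBr WithConv
open scoped MonObj TensorProduct

namespace SekSuwaOrd

section

variable {R : Type u} [CommRing R] {A : Type u} [CommRing A] [HopfAlgebra R A] (K : Type u) [Field K] [Algebra R K]
  [IsDomain R] [IsFractionRing R K]

/-- The point of `G` over `R` with values in `K` attached to a point of the generic fibre. -/
def genPt : sp R K ⟶ (Over.map (Spec.map (CommRingCat.ofHom (algebraMap R K)))).obj (𝟙_ (Over (Spec (CommRingCat.of K)))) :=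
  Over.homMk (𝟙 _) (by
    show 𝟙 _ ≫ 𝟙 _ ≫ Spec.map (CommRingCat.ofHom (algebraMap R K)) = Spec.map (CommRingCat.ofHom (algebraMap R K))
    rw [Category.id_comp]; exact Category.id_comp _)

theorem bijective_of_iso {N : Type} [Finite N] (χ : N → (A →ₐ[R] K))
    (e : (∐ fun _ : N => Spec (CommRingCat.of K)) ≅
      pullback (Spec.map (CommRingCat.ofHom (algebraMap R A))) (Spec.map (CommRingCat.ofHom (algebraMap R K))))
    (h₁ : ∀ m, Sigma.ι _ m ≫ e.hom ≫ pullback.fst _ _ = Spec.map (CommRingCat.ofHom (χ m).toRingHom))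
    (h₂ : ∀ m, Sigma.ι _ m ≫ e.hom ≫ pullback.snd _ _ = 𝟙 _) :
    Function.Bijective (evalPts (R := R) χ) := by
  let J := ULift.{u} N
  let S₀ : Scheme.{u} := Spec (CommRingCat.of K)
  let w : (∐ fun _ : J => S₀) ≅ ∐ fun _ : N => S₀ :=
    { hom := Sigma.desc fun j => Sigma.ι (fun _ : N => S₀) j.down
      inv := Sigma.desc fun m => Sigma.ι (fun _ : J => S₀) ⟨m⟩
      hom_inv_id := Sigma.hom_ext _ _ fun j => by simp; rfl
      inv_hom_id := Sigma.hom_ext _ _ fun m => by simp }
  let T := A ⊗[R] K
  let sg := sigmaSpec (fun _ : J => CommRingCat.of K)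
  haveI : IsIso sg := inferInstanceAs (IsIso (sigmaSpec fun _ : J => CommRingCat.of K))
  let q : Spec (CommRingCat.of (J → K)) ⟶ Spec (CommRingCat.of T) :=
    ((asIso sg).symm ≪≫ w ≪≫ e ≪≫ pullbackSpecIso R A K).hom
  haveI : IsIso q := ((asIso sg).symm ≪≫ w ≪≫ e ≪≫ pullbackSpecIso R A K).isIso_hom
  let θ : CommRingCat.of T ⟶ CommRingCat.of (J → K) := Spec.preimage q
  have hq : Spec.map θ = q := Spec.map_preimage q
  haveI : IsIso θ := by
    haveI : IsIso (Scheme.Spec.map θ.op) := by
      show IsIso (Spec.map θ)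
      rw [hq]; infer_instance
    haveI := isIso_of_reflects_iso θ.op Scheme.Spec
    exact isIso_of_op θ
  have hev : ∀ (x : T) (j : J) (g : T →+* K),
      Sigma.ι _ j ≫ w.hom ≫ e.hom ≫ (pullbackSpecIso R A K).hom = Spec.map (CommRingCat.ofHom g) →
      θ x j = g x := by
    intro x j g hg
    have h : θ ≫ CommRingCat.ofHom (Pi.evalRingHom (fun _ : J => K) j) = CommRingCat.ofHom g := by
      apply Spec.map_injective
      rw [Spec.map_comp, hq, ← hg, ← ι_sigmaSpec (fun _ : J => CommRingCat.of K) j, Category.assoc]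
      exact congrArg (Sigma.ι (fun _ : J => Spec (CommRingCat.of K)) j ≫ ·) (IsIso.hom_inv_id_assoc sg _)
    exact DFunLike.congr_fun (congrArg CommRingCat.Hom.hom h) x
  let g : N → (T →+* K) := fun m =>
    (Algebra.TensorProduct.lift (χ m) (AlgHom.id R K) fun _ _ => Commute.all _ _ : T →ₐ[R] K).toRingHom
  have hg : ∀ j : J, Sigma.ι _ j ≫ w.hom ≫ e.hom ≫ (pullbackSpecIso R A K).hom = Spec.map (CommRingCat.ofHom (g j.down)) := by
    intro j
    rw [← cancel_mono (pullbackSpecIso R A K).inv]
    simp only [Category.assoc, Iso.hom_inv_id, Category.comp_id]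
    rw [show w.hom = Sigma.desc fun j => Sigma.ι (fun _ : N => S₀) j.down from rfl, Sigma.ι_desc_assoc]
    apply pullback.hom_ext
    · rw [Category.assoc, Category.assoc, pullbackSpecIso_inv_fst, h₁, ← Spec.map_comp]
      congr 1
      ext a
      simp [g]
      show χ j.down a = Algebra.TensorProduct.lift (χ j.down) (AlgHom.id R K) _ (a ⊗ₜ 1)
      rw [Algebra.TensorProduct.lift_tmul, map_one, mul_one]
    · rw [Category.assoc, Category.assoc, pullbackSpecIso_inv_snd, h₂, ← Spec.map_comp]
      rw [← Spec.map_id]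
      congr 1
      ext a
      simp [g]
      show a = Algebra.TensorProduct.lift (χ j.down) (AlgHom.id R K) _ (1 ⊗ₜ a)
      rw [Algebra.TensorProduct.lift_tmul, map_one, one_mul]; rfl
  have hθ : ∀ (x : T) (m : N), θ x ⟨m⟩ = g m x := fun x m => hev x ⟨m⟩ _ (hg ⟨m⟩)
  have hb : Function.Bijective θ := ConcreteCategory.bijective_of_isIso θ
  have heq : ∀ (y : K ⊗[R] A) (m : N), evalPts χ y m = θ (Algebra.TensorProduct.comm R K A y) ⟨m⟩ := by
    intro y m
    rw [hθ]
    induction y using TensorProduct.induction_on with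
    | zero => simp
    | add y y' hy hy' => simp only [map_add, Pi.add_apply, hy, hy']
    | tmul c a =>
      rw [evalPts_tmul, Algebra.TensorProduct.comm_tmul, mul_comm]
      show χ m a * c = Algebra.TensorProduct.lift (χ m) (AlgHom.id R K) (fun _ _ => Commute.all _ _) (a ⊗ₜ c)
      rw [Algebra.TensorProduct.lift_tmul]; rfl
  constructor
  · intro y y' h
    apply (Algebra.TensorProduct.comm R K A).injective
    apply hb.1
    funext j
    rw [← heq, ← heq, h]
  · intro f
    obtain ⟨x, hx⟩ := hb.2 (fun j => f j.down)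
    exact ⟨(Algebra.TensorProduct.comm R K A).symm x, funext fun m => by rw [heq, AlgEquiv.apply_symm_apply, hx]⟩

end

open SekSuwa in
theorem exists_iso_GK (R : Type u) [CommRing R] [IsDomain R] [IsDiscreteValuationRing R]
    (p : ℕ) [Fact p.Prime] [CharP (IsLocalRing.ResidueField R) p]
    (ζ : R) (hζ : IsPrimitiveRoot ζ p)
    (G : Over (Spec (CommRingCat.of R))) [GrpObj G] [IsFinite G.hom] [Flat G.hom]
    (e : Red.bc (Spec.map (CommRingCat.ofHom (algebraMap R (FractionRing R)))) G ≅ TwC.const (Spec (CommRingCat.of (FractionRing R))) (Multiplicative (ZMod p)))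
    (he : TwC.IsConstGrp (Multiplicative (ZMod p)) (Red.bc (Spec.map (CommRingCat.ofHom (algebraMap R (FractionRing R)))) G) e) :
    ∃ (lam : R) (h : SekSuwa.DivCond lam p), lam ≠ 0 ∧ Nonempty (Grp.mk G ≅ Grp.mk (SekSuwa.GK R lam p h)) := by
  classical
  let K := FractionRing R
  let φ := Spec.map (CommRingCat.ofHom (algebraMap R K))
  let M := Multiplicative (ZMod p)
  haveI : IsAffine G.left := isAffine_of_isAffineHom G.hom
  obtain ⟨A, _, _, v, hv, hv'⟩ := DeligneKillLib.exists_sp G
  haveI := hv; haveI := hv'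
  haveI : IsIso v.hom.left := (Over.forget _).map_isIso v.hom
  have hw : (sp R A).hom = v.hom.left ≫ G.hom := (Over.w v.hom).symm
  have hfin : IsFinite (sp R A).hom := by rw [hw]; infer_instance
  have hflat : Flat (sp R A).hom := by rw [hw]; infer_instance
  change IsFinite (Spec.map (CommRingCat.ofHom (algebraMap R A))) at hfin
  change Flat (Spec.map (CommRingCat.ofHom (algebraMap R A))) at hflat
  rw [IsFinite.SpecMap_iff, CommRingCat.hom_ofHom, RingHom.finite_algebraMap] at hfin
  rw [Flat.SpecMap_iff, CommRingCat.hom_ofHom, RingHom.flat_algebraMap_iff] at hflat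
  haveI := hfin; haveI := hflat
  haveI : Module.FinitePresentation R A := Module.finitePresentation_of_finite R A
  haveI : Module.Free R A := Module.free_of_flat_of_isLocalRing
  let adj := Over.mapPullbackAdj φ
  let x : M → ((Over.map φ).obj (𝟙_ (Over (Spec (CommRingCat.of K)))) ⟶ G) := fun m =>
    (adj.homEquiv _ G).symm (TwC.pt (Spec (CommRingCat.of K)) M m ≫ e.inv)
  have hx : ∀ m n, x (m * n) = x m * x n := fun m n => by
    rw [Equiv.symm_apply_eq, AlgGrp.Action.homEquiv_mul, Equiv.apply_symm_apply, Equiv.apply_symm_apply, he m n]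
  let y : M → (sp R K ⟶ sp R A) := fun m => genPt K ≫ x m ≫ v.inv
  have hy : ∀ m n, y (m * n) = y m * y n := fun m n => by
    simp only [y, hx, MonObj.mul_comp, MonObj.comp_mul]
  choose χ hχ using fun m => Groth.Agent.DiagRep.exists_pt (y m)
  have hmul : ∀ m n, toConv (χ (m * n)) = toConv (χ m) * toConv (χ n) := fun m n => by
    apply WithConv.ext
    apply pt_injective (R := R) (B := A) (K := K)
    rw [← Groth.Agent.DiagRep.pt_mul_conv]
    simp only [ofConv_toConv, ← hχ, hy]
  let E : (∐ fun _ : M => Spec (CommRingCat.of K)) ≅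
      pullback (Spec.map (CommRingCat.ofHom (algebraMap R A))) φ :=
    (Over.forget _).mapIso (e.symm ≪≫ (Over.pullback φ).mapIso v.symm)
  have hfst : ∀ {Y Z : Over (Spec (CommRingCat.of R))} (f : Y ⟶ Z),
      ((Over.pullback φ).map f).left ≫ pullback.fst Z.hom φ = pullback.fst Y.hom φ ≫ f.left := fun f =>
    pullback.lift_fst _ _ _
  have h₁ : ∀ m, Sigma.ι _ m ≫ E.hom ≫ pullback.fst _ _ = Spec.map (CommRingCat.ofHom (χ m).toRingHom) := by
    intro m
    have hl := congrArg (fun q : sp R K ⟶ sp R A => q.left) (hχ m)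
    refine Eq.trans ?_ hl
    show Sigma.ι _ m ≫ (e.inv.left ≫ ((Over.pullback φ).map v.inv).left) ≫ pullback.fst (sp R A).hom φ =
      𝟙 _ ≫ (x m).left ≫ v.inv.left
    rw [Category.assoc, hfst, Category.id_comp]
    show _ = (((TwC.pt (Spec (CommRingCat.of K)) M m ≫ e.inv).left ≫ pullback.fst G.hom φ)) ≫ v.inv.left
    simp only [Over.comp_left, Category.assoc]
    rfl
  have h₂ : ∀ m, Sigma.ι _ m ≫ E.hom ≫ pullback.snd _ _ = 𝟙 _ := by
    intro m
    show Sigma.ι _ m ≫ (e.symm ≪≫ (Over.pullback φ).mapIso v.symm).hom.left ≫ _ = _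
    have := Over.w (e.symm ≪≫ (Over.pullback φ).mapIso v.symm).hom
    refine (congrArg (Sigma.ι (fun _ : M => Spec (CommRingCat.of K)) m ≫ ·) this).trans ?_
    exact Sigma.ι_desc _ _
  have hbij := bijective_of_iso K χ E h₁ h₂
  obtain ⟨lam, h, ψ, hlam, hψ⟩ := exists_bialgHom p ζ hζ χ hmul hbij
  refine ⟨lam, h, hlam, ?_⟩
  let u : sp R A ⟶ GK R lam p h := SekSuwa.specHom ψ
  haveI : IsMonHom u := SekSuwa.isMonHom_specHom ψ
  haveI : IsIso (CommRingCat.ofHom (ψ : SekSuwa.AK R lam p h →+* A)) := by
    rw [ConcreteCategory.isIso_iff_bijective]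
    exact hψ
  haveI : IsIso ((Over.forget _).map u) := by
    show IsIso (Spec.map (CommRingCat.ofHom (ψ : SekSuwa.AK R lam p h →+* A)))
    infer_instance
  haveI : IsIso u := isIso_of_reflects_iso u (Over.forget _)
  haveI : IsMonHom (v.symm ≪≫ asIso u).hom := inferInstanceAs (IsMonHom (v.inv ≫ u))
  exact ⟨Grp.mkIso' (v.symm ≪≫ asIso u)⟩

end SekSuwaOrd
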