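import Groth.Agent.SekSuwaOrd.Ext
import Groth.Agent.SekSuwaOrd.Main
import Groth.Agent.SekSuwaGen.Main
import Groth.Prelude.Def_NonAbH2
import Groth.Prelude.Def_Mor2

/-! Groups of order `p²` with constant generic fibre are extensions. -/

set_option autoImplicit false
set_option linter.all false
set_option backward.isDefEq.respectTransparency false
set_option backward.isDefEq.respectTransparency.types false
set_option maxHeartbeats 1600000

noncomputable section

universe u

open CategoryTheory CategoryTheory.Limits MonoidalCategory CartesianMonoidalCategory AlgebraicGeometry CoactBr WithConv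
open scoped MonObj TensorProduct

namespace SekSuwaOrd

theorem exists_points (R : Type u) [CommRing R] [IsDomain R] (K : Type u) [Field K] [Algebra R K] [IsFractionRing R K]
    (A : Type u) [CommRing A] [HopfAlgebra R A]
    (G : Over (Spec (CommRingCat.of R))) [GrpObj G] (v : sp R A ≅ G) [IsMonHom v.inv]
    (M : Type) [Group M] [Finite M]
    (e : Red.bc (Spec.map (CommRingCat.ofHom (algebraMap R K))) G ≅ TwC.const (Spec (CommRingCat.of K)) M)
    (he : TwC.IsConstGrp M (Red.bc (Spec.map (CommRingCat.ofHom (algebraMap R K))) G) e) :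
    ∃ χ : M → (A →ₐ[R] K), (∀ m n, toConv (χ (m * n)) = toConv (χ m) * toConv (χ n)) ∧
      Function.Bijective (evalPts (R := R) χ) := by
  let φ := Spec.map (CommRingCat.ofHom (algebraMap R K))
  let adj := Over.mapPullbackAdj φ
  let x : M → ((Over.map φ).obj (𝟙_ (Over (Spec (CommRingCat.of K)))) ⟶ G) := fun m =>
    (adj.homEquiv _ G).symm (TwC.pt (Spec (CommRingCat.of K)) M m ≫ e.inv)
  have hx : ∀ m n, x (m * n) = x m * x n := fun m n => by
    rw [Equiv.symm_apply_eq, AlgGrp.Action.homEquiv_mul, Equiv.apply_symm_apply, Equiv.apply_symm_apply, he m n]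
  let y : M → (sp R K ⟶ sp R A) := fun m => genPt K ≫ x m ≫ v.inv
  have hy : ∀ m n, y (m * n) = y m * y n := fun m n => by
    simp only [y, hx, MonObj.mul_comp, MonObj.comp_mul]
  choose χ hχ using fun m => Groth.Agent.DiagRep.exists_pt (y m)
  have hmul : ∀ m n, toConv (χ (m * n)) = toConv (χ m) * toConv (χ n) := fun m n => by
    apply WithConv.ext
    apply pt_injective (R := R) (B := A) (K := K)
    rw [← Groth.Agent.DiagRep.pt_mul_conv]
    simp only [ofConv_toConv, ← hχ, hy]
  let E : (∐ fun _ : M => Spec (CommRingCat.of K)) ≅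
      pullback (Spec.map (CommRingCat.ofHom (algebraMap R A))) φ :=
    (Over.forget _).mapIso (e.symm ≪≫ (Over.pullback φ).mapIso v.symm)
  have hfst : ∀ {Y Z : Over (Spec (CommRingCat.of R))} (f : Y ⟶ Z),
      ((Over.pullback φ).map f).left ≫ pullback.fst Z.hom φ = pullback.fst Y.hom φ ≫ f.left := fun f =>
    pullback.lift_fst _ _ _
  have h₁ : ∀ m, Sigma.ι _ m ≫ E.hom ≫ pullback.fst _ _ = Spec.map (CommRingCat.ofHom (χ m).toRingHom) := by
    intro m
    have hl := congrArg (fun q : sp R K ⟶ sp R A => q.left) (hχ m)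
    refine Eq.trans ?_ hl
    show Sigma.ι _ m ≫ (e.inv.left ≫ ((Over.pullback φ).map v.inv).left) ≫ pullback.fst (sp R A).hom φ =
      𝟙 _ ≫ (x m).left ≫ v.inv.left
    rw [Category.assoc, hfst, Category.id_comp]
    show _ = (((TwC.pt (Spec (CommRingCat.of K)) M m ≫ e.inv).left ≫ pullback.fst G.hom φ)) ≫ v.inv.left
    simp only [Over.comp_left, Category.assoc]
    rfl
  have h₂ : ∀ m, Sigma.ι _ m ≫ E.hom ≫ pullback.snd _ _ = 𝟙 _ := by
    intro m
    show Sigma.ι _ m ≫ (e.symm ≪≫ (Over.pullback φ).mapIso v.symm).hom.left ≫ _ = _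
    have := Over.w (e.symm ≪≫ (Over.pullback φ).mapIso v.symm).hom
    refine (congrArg (Sigma.ι (fun _ : M => Spec (CommRingCat.of K)) m ≫ ·) this).trans ?_
    exact Sigma.ι_desc _ _
  exact ⟨χ, hmul, bijective_of_iso K χ E h₁ h₂⟩

theorem exists_char (p : ℕ) [Fact p.Prime] (M : Type) [Group M] [Finite M] (hM : Nat.card M = p ^ 2) :
    ∃ (q : M →* Multiplicative (ZMod p)) (io : Multiplicative (ZMod p) →* M),
      Function.Surjective q ∧ Function.Injective io ∧ ∀ m, q m = 1 ↔ ∃ j, io j = m := by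
  letI : CommGroup M := IsPGroup.commGroupOfCardEqPrimeSq hM
  obtain ⟨N, hN⟩ := Sylow.exists_subgroup_card_pow_prime (G := M) p (n := 1)
    (by rw [hM]; exact pow_dvd_pow p one_le_two)
  rw [pow_one] at hN
  have hZ : Nat.card (Multiplicative (ZMod p)) = p := (Nat.card_congr Multiplicative.toAdd).trans (Nat.card_zmod p)
  have hQ : Nat.card (M ⧸ N) = p := by
    have h := Subgroup.card_eq_card_quotient_mul_card_subgroup N
    rw [hM, hN, pow_two] at h
    exact (mul_right_cancel₀ (Fact.out : p.Prime).ne_zero h).symm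
  let eq : M ⧸ N ≃* Multiplicative (ZMod p) := mulEquivOfPrimeCardEq hQ hZ
  let eN : Multiplicative (ZMod p) ≃* N := mulEquivOfPrimeCardEq hZ hN
  refine ⟨eq.toMonoidHom.comp (QuotientGroup.mk' N), N.subtype.comp eN.toMonoidHom,
    eq.surjective.comp (QuotientGroup.mk'_surjective N), Subtype.val_injective.comp eN.injective, fun m => ?_⟩
  constructor
  · intro h
    have hm : m ∈ N := (QuotientGroup.eq_one_iff m).1 ((map_eq_one_iff eq eq.injective).1 h)
    exact ⟨eN.symm ⟨m, hm⟩, by simp⟩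
  · rintro ⟨j, rfl⟩
    show eq ((eN j : M) : M ⧸ N) = 1
    rw [(QuotientGroup.eq_one_iff _).2 (eN j).2, map_one]

variable {S : Scheme.{u}} {G G' G'' : Over S} [GrpObj G] [GrpObj G'] [GrpObj G'']

/-- The torsor square of a kernel. -/
theorem isPullback_of_kernel (u : G' ⟶ G) (v : G ⟶ G'') [IsMonHom v] [Mono u] (huv : u ≫ v = 1)
    (hker : ∀ (T : Over S) (z : T ⟶ G), z ≫ v = 1 → ∃ z', z' ≫ u = z) :
    IsPullback (fst G G') ((G ◁ u) ≫ MonObj.mul) v v := by
  have hmid : ∀ {T : Over S} (m : T ⟶ G ⊗ G'),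
      m ≫ ((G ◁ u) ≫ MonObj.mul) = (m ≫ fst _ _) * ((m ≫ snd _ _) ≫ u) := by
    intro T m
    rw [Hom.mul_def, ← Category.assoc]
    congr 1
    refine CartesianMonoidalCategory.hom_ext _ _ ?_ ?_
    · simp
    · simp
  have w : fst G G' ≫ v = ((G ◁ u) ≫ MonObj.mul) ≫ v := by
    have := hmid (𝟙 (G ⊗ G'))
    simp only [Category.id_comp] at this
    rw [this, MonObj.mul_comp, Category.assoc, huv, MonObj.comp_one, mul_one]
  have key : ∀ s : PullbackCone v v, ∃ c : s.pt ⟶ G', s.fst * (c ≫ u) = s.snd := by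
    intro s
    obtain ⟨c, hc⟩ := hker s.pt (s.fst⁻¹ * s.snd) (by
      rw [MonObj.mul_comp, GrpObj.inv_comp, s.condition, inv_mul_cancel])
    exact ⟨c, by rw [hc, mul_inv_cancel_left]⟩
  choose c hc using key
  refine ⟨⟨w⟩, ⟨PullbackCone.IsLimit.mk w (fun s => lift s.fst (c s)) (fun s => lift_fst _ _)
    (fun s => ?_) fun s m h1 h2 => ?_⟩⟩
  · rw [hmid, lift_fst, lift_snd, hc]
  · refine CartesianMonoidalCategory.hom_ext _ _ (by rw [lift_fst]; exact h1) ?_
    rw [lift_snd, ← cancel_mono u]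
    rw [hmid, h1] at h2
    exact mul_left_cancel (h2.trans (hc s).symm)

/-- The coordinates of a point. -/
def coord {R B : Type u} [CommRing R] [CommRing B] [Algebra R B] {T : Over (Spec (CommRingCat.of R))}
    (z : T ⟶ sp R B) : B →+* Γ(T.left, ⊤) :=
  z.left.appTop.hom.comp (Scheme.ΓSpecIso (CommRingCat.of B)).inv.hom

theorem left_eq_toAff {R B : Type u} [CommRing R] [CommRing B] [Algebra R B] {T : Over (Spec (CommRingCat.of R))}
    (z : T ⟶ sp R B) : z.left = SekSuwaGen.toAff (CommRingCat.ofHom (coord z)) :=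
  (SekSuwaGen.eq_toAff z.left).symm

theorem coord_comp {R A B : Type u} [CommRing R] [CommRing A] [CommRing B] [HopfAlgebra R A] [HopfAlgebra R B]
    {T : Over (Spec (CommRingCat.of R))} (z : T ⟶ sp R A) (ψ : B →ₐc[R] A) :
    coord (z ≫ SekSuwa.specHom ψ) = (coord z).comp (ψ : B →+* A) := by
  have h : (z ≫ SekSuwa.specHom ψ).left = SekSuwaGen.toAff (CommRingCat.ofHom ((coord z).comp (ψ : B →+* A))) := by
    show z.left ≫ Spec.map (CommRingCat.ofHom (ψ : B →+* A)) = _
    rw [left_eq_toAff z, SekSuwaGen.toAff_comp]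
    rfl
  have h2 := congrArg (fun l => (Scheme.ΓSpecIso (CommRingCat.of B)).inv ≫ l.appTop) h
  exact congrArg CommRingCat.Hom.hom (h2.trans (SekSuwaGen.ψ_toAff _))

theorem coord_one {R B : Type u} [CommRing R] [CommRing B] [HopfAlgebra R B] {T : Over (Spec (CommRingCat.of R))}
    (b : B) : ∃ c : R →+* Γ(T.left, ⊤), coord (1 : T ⟶ sp R B) b = c (Bialgebra.counitAlgHom R B b) := by
  have h : (1 : T ⟶ sp R B).left = T.hom ≫ Spec.map (CommRingCat.ofHom (Bialgebra.counitAlgHom R B).toRingHom) := by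
    rw [Hom.one_def, Over.comp_left]
    have hT : (toUnit T).left = T.hom := by
      rw [← Category.comp_id (toUnit T).left]
      exact Over.w (toUnit T)
    rw [hT, one_spec_asOver_spec_left]
    rfl
  rw [← SekSuwaGen.eq_toAff T.hom, SekSuwaGen.toAff_comp] at h
  have h2 := congrArg (fun l => (Scheme.ΓSpecIso (CommRingCat.of B)).inv ≫ l.appTop) h
  exact ⟨((Scheme.ΓSpecIso (CommRingCat.of R)).inv ≫ T.hom.appTop).hom,
    DFunLike.congr_fun (congrArg CommRingCat.Hom.hom (h2.trans (SekSuwaGen.ψ_toAff _))) b⟩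

open SekSuwa in
theorem exists_isExactSeq (R : Type u) [CommRing R] [IsDomain R] [IsDiscreteValuationRing R]
    (p : ℕ) [Fact p.Prime] [CharP (IsLocalRing.ResidueField R) p]
    (ζ : R) (hζ : IsPrimitiveRoot ζ (p ^ 2))
    (G : Over (Spec (CommRingCat.of R))) [GrpObj G] (hG : Mor2.IsFinLocFreeOfDeg (p ^ 2) G.hom)
    (M : Type) [Group M] [Finite M]
    (e : Red.bc (Spec.map (CommRingCat.ofHom (algebraMap R (FractionRing R)))) G ≅ TwC.const (Spec (CommRingCat.of (FractionRing R))) M)
    (he : TwC.IsConstGrp M (Red.bc (Spec.map (CommRingCat.ofHom (algebraMap R (FractionRing R)))) G) e) :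
    ∃ (lam mu : R) (h₁ : SekSuwa.DivCond lam p) (h₂ : SekSuwa.DivCond mu p)
      (u : SekSuwa.GK R lam p h₁ ⟶ G) (v : G ⟶ SekSuwa.GK R mu p h₂),
      lam ≠ 0 ∧ mu ≠ 0 ∧ NonAbH1.IsExactSeq Scheme.fppfPrecoverage u v := by
  classical
  let K := FractionRing R
  obtain ⟨⟨hfin', hflat', hfp'⟩, hdeg⟩ := hG
  haveI := hfin'; haveI := hflat'; haveI := hfp'
  haveI : IsAffine G.left := isAffine_of_isAffineHom G.hom
  obtain ⟨A, _, _, vG, hv, hv'⟩ := DeligneKillLib.exists_sp G
  haveI := hv; haveI := hv'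
  haveI : IsIso vG.hom.left := (Over.forget _).map_isIso vG.hom
  have hw : (sp R A).hom = vG.hom.left ≫ G.hom := (Over.w vG.hom).symm
  have hfin : IsFinite (sp R A).hom := by rw [hw]; infer_instance
  have hflat : Flat (sp R A).hom := by rw [hw]; infer_instance
  change IsFinite (Spec.map (CommRingCat.ofHom (algebraMap R A))) at hfin
  change Flat (Spec.map (CommRingCat.ofHom (algebraMap R A))) at hflat
  rw [IsFinite.SpecMap_iff, CommRingCat.hom_ofHom, RingHom.finite_algebraMap] at hfin
  rw [Flat.SpecMap_iff, CommRingCat.hom_ofHom, RingHom.flat_algebraMap_iff] at hflat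
  haveI := hfin; haveI := hflat
  haveI : Module.FinitePresentation R A := Module.finitePresentation_of_finite R A
  haveI : Module.Free R A := Module.free_of_flat_of_isLocalRing
  have hrank : Module.finrank R A = p ^ 2 := by
    let q : PrimeSpectrum R := IsLocalRing.closedPoint R
    rw [show Module.finrank R A = Module.rankAtStalk A q from (congrFun (Module.rankAtStalk_eq_finrank_of_free (R := R) (M := A)) q).symm, ← Scheme.Hom.finrank_SpecMap_algebraMap R A q,
      ← hdeg q]
    have : Spec.map (CommRingCat.ofHom (algebraMap R A)) = vG.hom.left ≫ G.hom := hw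
    rw [this, Scheme.Hom.finrank_comp_left_of_isIso]
  obtain ⟨χ, hmul, hbij⟩ := exists_points R K A G vG M e he
  haveI : Fintype M := Fintype.ofFinite M
  have hM : Nat.card M = p ^ 2 := by rw [Nat.card_eq_fintype_card, ← finrank_eq_card χ hbij, hrank]
  obtain ⟨q, io, hq, hι, hιq⟩ := exists_char p M hM
  have hζ1 : IsPrimitiveRoot (ζ ^ p) p := hζ.pow (pow_pos (Fact.out : p.Prime).pos 2) (pow_two p)
  obtain ⟨lam, mu, h₁, h₂, π, ψ, hlam, hmu, hff, hπ, hπker⟩ := exists_ext p (ζ ^ p) hζ1 χ hmul hbij q hq io hι hιq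
  let u₀ : GK R lam p h₁ ⟶ sp R A := SekSuwa.specHom π
  let v₀ : sp R A ⟶ GK R mu p h₂ := SekSuwa.specHom ψ
  haveI : IsMonHom u₀ := SekSuwa.isMonHom_specHom π
  haveI : IsMonHom v₀ := SekSuwa.isMonHom_specHom ψ
  have huv : (u₀ ≫ vG.hom) ≫ vG.inv ≫ v₀ = 1 := by
    rw [Category.assoc, Iso.hom_inv_id_assoc]
    have e0 : π.comp ψ = (Bialgebra.unitBialgHom R (AK R lam p h₁)).comp (Bialgebra.counitBialgHom R (AK R mu p h₂)) := by
      have h0 : π (ψ AK.t) = 0 := (hπker _).2 (Ideal.subset_span rfl)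
      apply BialgHom.coe_algHom_injective
      apply AK.algHom_ext
      · show π (ψ AK.t) = algebraMap R _ (CoalgebraStruct.counit (R := R) (AK.t : AK R mu p h₂))
        rw [h0, AK.counit_t, map_zero]
      · show π (ψ AK.inv) = algebraMap R _ (CoalgebraStruct.counit (R := R) (AK.inv : AK R mu p h₂))
        rw [AK.counit_inv, map_one]
        have e1 : (1 + mu • (AK.t : AK R mu p h₂)) * AK.inv = 1 := by
          have := congrArg (AK.mkHom R mu p h₂) (SekSuwa.A.u_mul_inv (R := R) (lam := mu))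
          rw [map_mul, map_one, SekSuwa.A.u, map_add, map_one, map_smul] at this
          exact this
        have := congrArg (fun x => π (ψ x)) e1
        simpa [h0] using this
    rw [← specHom_trivial, ← e0, specHom_comp]
  refine ⟨lam, mu, h₁, h₂, u₀ ≫ vG.hom, vG.inv ≫ v₀, hlam, hmu, inferInstance, inferInstance, huv, ?_, ?_⟩
  · haveI : IsClosedImmersion u₀.left :=
      IsClosedImmersion.spec_of_surjective (CommRingCat.ofHom (π : A →+* AK R lam p h₁)) hπ
    haveI : Mono u₀.left := inferInstance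
    haveI : Mono u₀ := (Over.forget _).mono_of_mono_map (inferInstanceAs (Mono u₀.left))
    haveI : Mono (u₀ ≫ vG.hom) := inferInstance
    refine isPullback_of_kernel _ _ huv fun T z hz => ?_
    let z₀ : T ⟶ sp R A := z ≫ vG.inv
    have hz₀ : z₀ ≫ v₀ = 1 := by rw [Category.assoc]; exact hz
    let g : A →+* Γ(T.left, ⊤) := coord z₀
    have hz0l : z₀.left = SekSuwaGen.toAff (CommRingCat.ofHom g) := left_eq_toAff z₀
    have hgt : g (ψ AK.t) = 0 := by
      obtain ⟨c, hc⟩ := coord_one (R := R) (T := T) (AK.t : AK R mu p h₂)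
      refine (DFunLike.congr_fun (coord_comp z₀ ψ) AK.t).symm.trans ?_
      rw [hz₀, hc, Bialgebra.counitAlgHom_apply, AK.counit_t, map_zero]
    have hg0 : ∀ a, π a = 0 → g a = 0 := by
      intro a ha
      obtain ⟨c, hc⟩ := Ideal.mem_span_singleton'.mp ((hπker a).1 ha)
      rw [← hc, map_mul, hgt, mul_zero]
    let g' : AK R lam p h₁ →+* Γ(T.left, ⊤) := RingHom.liftOfSurjective (π : A →+* AK R lam p h₁) hπ ⟨g, fun a ha => hg0 a ha⟩
    have hg' : g'.comp (π : A →+* AK R lam p h₁) = g := RingHom.liftOfRightInverse_comp _ _ _ _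
    refine ⟨Over.homMk (SekSuwaGen.toAff (CommRingCat.ofHom g')) ?_, ?_⟩
    · show SekSuwaGen.toAff _ ≫ Spec.map (CommRingCat.ofHom (algebraMap R (AK R lam p h₁))) = T.hom
      rw [SekSuwaGen.toAff_comp, ← Over.w z₀, hz0l]
      show _ = SekSuwaGen.toAff _ ≫ Spec.map (CommRingCat.ofHom (algebraMap R A))
      rw [SekSuwaGen.toAff_comp]
      refine congrArg SekSuwaGen.toAff (CommRingCat.hom_ext ?_)
      show g'.comp (algebraMap R _) = g.comp (algebraMap R A)
      rw [← hg', RingHom.comp_assoc]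
      congr 1
      exact ((π : A →ₐ[R] AK R lam p h₁).comp_algebraMap).symm
    · rw [← cancel_mono vG.inv, Category.assoc, Category.assoc, Iso.hom_inv_id, Category.comp_id]
      apply Over.OverMorphism.ext
      show SekSuwaGen.toAff _ ≫ Spec.map (CommRingCat.ofHom (π : A →+* AK R lam p h₁)) = z₀.left
      rw [SekSuwaGen.toAff_comp, hz0l]
      exact congrArg SekSuwaGen.toAff (CommRingCat.hom_ext hg')
  · obtain ⟨hfl, hs⟩ := RingHom.FaithfullyFlat.iff_flat_and_comap_surjective.1 hff
    let g := Spec.map (CommRingCat.ofHom (ψ : AK R mu p h₂ →+* A))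
    haveI : Flat g := (HasRingHomProperty.Spec_iff (P := @Flat)).2 hfl
    haveI : Surjective g := ⟨hs⟩
    haveI : LocallyOfFinitePresentation g := by
      haveI : Module.Finite R (AK R mu p h₂) := by
        obtain ⟨b, -⟩ := exists_basis_AK h₂
        exact Module.Finite.of_basis b
      haveI : IsNoetherianRing (AK R mu p h₂) := IsNoetherianRing.of_finite R _
      refine (HasRingHomProperty.Spec_iff (P := @LocallyOfFinitePresentation)).2 (RingHom.FinitePresentation.of_finiteType.1 ?_)
      exact RingHom.FiniteType.of_comp_finiteType (f := algebraMap R (AK R mu p h₂)) (by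
        have hc : (ψ : AK R mu p h₂ →+* A).comp (algebraMap R (AK R mu p h₂)) = algebraMap R A :=
          RingHom.ext fun r => (ψ : AK R mu p h₂ →ₐ[R] A).commutes r
        show RingHom.FiniteType ((ψ : AK R mu p h₂ →+* A).comp (algebraMap R (AK R mu p h₂)))
        rw [hc]
        exact RingHom.finiteType_algebraMap.2 inferInstance)
    let f := (vG.inv ≫ v₀).left
    haveI : IsIso vG.inv.left := (Over.forget _).map_isIso vG.inv
    have hf : f = vG.inv.left ≫ g := rfl
    haveI : Flat f := by rw [hf]; infer_instance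
    haveI : Surjective f := by rw [hf]; infer_instance
    haveI : LocallyOfFinitePresentation f := by rw [hf]; infer_instance
    refine ⟨Presieve.singleton f, Scheme.Hom.singleton_mem_fppfPrecoverage f, ?_⟩
    rintro S' f' ⟨⟩
    exact ⟨𝟙 _, Category.id_comp _⟩

end SekSuwaOrd
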