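import Mathlib

/-! Hopf orders with generic fibre a group of prime order: algebraic preliminaries. -/

set_option autoImplicit false
set_option linter.all false

noncomputable section

open TensorProduct Coalgebra Module

universe u v w

namespace SekSuwaOrd

/-- The powers of an element with additive or multiplicative law are independent below `p`. -/
theorem linearIndependent_pow {k : Type u} [Field k] {B : Type v} [CommRing B] [Bialgebra k B] {p : ℕ}
    (hp : p.Prime) [CharP k p] (l : k) (t : B) (ht0 : t ≠ 0) (hε : counit (R := k) t = 0)
    (hΔ : comul (R := k) t = t ⊗ₜ 1 + 1 ⊗ₜ t + l • (t ⊗ₜ t)) (hX : (1 + l • t) ^ p = 1) :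
    LinearIndependent k fun i : Fin p => t ^ (i : ℕ) := by
  by_cases hl : l = 0
  · subst hl
    rw [zero_smul, add_zero] at hΔ
    have hΔp : ∀ i, comul (R := k) (t ^ i) = ∑ s ∈ Finset.range (i + 1), (i.choose s : k) • ((t ^ s) ⊗ₜ[k] (t ^ (i - s))) := by
      intro i
      rw [Bialgebra.comul_pow, hΔ, Commute.add_pow (Commute.all _ _)]
      refine Finset.sum_congr rfl fun s _ => ?_
      rw [Algebra.TensorProduct.tmul_pow, Algebra.TensorProduct.tmul_pow, one_pow, one_pow,
        Algebra.TensorProduct.tmul_mul_tmul, one_mul, mul_one, ← Nat.cast_comm, Nat.cast_smul_eq_nsmul k, nsmul_eq_mul]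
    suffices H : ∀ j, j ≤ p → LinearIndependent k fun i : Fin j => t ^ (i : ℕ) from H p le_rfl
    intro j
    induction j with
    | zero => exact fun _ => linearIndependent_empty_type
    | succ j ih =>
      intro hj
      have hind := ih (by omega)
      rw [show (fun i : Fin (j + 1) => t ^ (i : ℕ)) = Fin.snoc (fun i : Fin j => t ^ (i : ℕ)) (t ^ j) by
        funext i
        refine Fin.lastCases ?_ (fun i => ?_) i <;> simp, linearIndependent_finSnoc]
      refine ⟨hind, fun hmem => ?_⟩
      obtain ⟨c, hc⟩ := Submodule.mem_span_range_iff_exists_fun k |>.1 hmem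
      by_cases h2 : j < 2
      · interval_cases j
        · simp at hc
          exact one_ne_zero (α := k) (by simpa using congrArg (counit (R := k)) hc.symm)
        · simp at hc
          have h := congrArg (counit (R := k)) hc
          simp [hε] at h
          rw [h, zero_smul] at hc
          exact ht0 hc.symm
      · obtain ⟨φ, hφ⟩ := LinearMap.exists_extend ((Basis.span hind).constr k fun i : Fin j => if (i : ℕ) = 1 then (1 : k) else 0)
        replace hφ : ∀ i : Fin j, φ (t ^ (i : ℕ)) = if (i : ℕ) = 1 then 1 else 0 := fun i => by
          have h := LinearMap.congr_fun hφ (Basis.span hind i)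
          rw [Basis.constr_basis, LinearMap.comp_apply, Submodule.subtype_apply, Basis.span_apply] at h
          exact h
        let D : B →ₗ[k] B := (TensorProduct.rid k B).toLinearMap ∘ₗ φ.lTensor B ∘ₗ comul
        have hD : ∀ i, D (t ^ i) = ∑ s ∈ Finset.range (i + 1), ((i.choose s : k) * φ (t ^ (i - s))) • t ^ s := by
          intro i
          simp only [D, LinearMap.comp_apply, hΔp, map_sum, map_smul, LinearMap.lTensor_tmul, LinearEquiv.coe_coe,
            TensorProduct.rid_tmul, smul_smul]
        have hφ' : ∀ i, i < j → φ (t ^ i) = if i = 1 then 1 else 0 := fun i hi => hφ ⟨i, hi⟩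
        have hlow : ∀ i, i < j → D (t ^ i) = (i : k) • t ^ (i - 1) := by
          intro i hi
          rw [hD]
          rcases i with _ | i
          · have h0 := hφ' 0 (by omega)
            simp at h0
            simp [h0]
          rw [Finset.sum_eq_single i]
          · rw [Nat.choose_succ_self_right, show i + 1 - i = 1 by omega, hφ' 1 (by omega)]
            simp
          · intro s hs hne
            rw [hφ' _ (by omega), if_neg (by have := Finset.mem_range.1 hs; omega), mul_zero, zero_smul]
          · intro h
            simp at h
        have htop : D (t ^ j) = φ (t ^ j) • (1 : B) + (j : k) • t ^ (j - 1) := by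
          rw [hD, Finset.sum_eq_add (0 : ℕ) (j - 1) (by omega)]
          · congr 1
            · simp
            · rw [show j - (j - 1) = 1 by omega, hφ' 1 (by omega), if_pos rfl, mul_one,
                show j.choose (j - 1) = j by
                  rw [Nat.choose_symm (show 1 ≤ j by omega), Nat.choose_one_right]]
          · intro s hs hne
            have := Finset.mem_range.1 hs
            rcases Nat.eq_zero_or_pos (j - s) with h | h
            · rw [h, hφ' 0 (by omega), if_neg (by omega), mul_zero, zero_smul]
            · rw [hφ' _ (by omega), if_neg (by omega), mul_zero, zero_smul]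
          · intro h
            simp at h
          · intro h
            simp at h
        have key := congrArg D hc
        simp only [map_sum, map_smul, htop] at key
        rw [Finset.sum_congr rfl fun i _ => by rw [hlow i i.isLt]] at key
        -- a nontrivial relation of lower degree
        have hz : (j : k) • t ^ (j - 1) ∈ Submodule.span k ((fun i : Fin j => t ^ (i : ℕ)) '' {i | (i : ℕ) < j - 1}) := by
          have : (j : k) • t ^ (j - 1) = (∑ i : Fin j, c i • (((i : ℕ) : k) • t ^ ((i : ℕ) - 1))) - φ (t ^ j) • (1 : B) := by
            rw [key, add_sub_cancel_left]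
          rw [this]
          refine Submodule.sub_mem _ (Submodule.sum_mem _ fun i _ => Submodule.smul_mem _ _ (Submodule.smul_mem _ _ ?_)) ?_
          · exact Submodule.subset_span ⟨⟨(i : ℕ) - 1, by omega⟩, by simp; omega, rfl⟩
          · exact Submodule.smul_mem _ _ (Submodule.subset_span ⟨⟨0, by omega⟩, by simp; omega, by simp⟩)
        have hnk : (j : k) ≠ 0 := by
          rw [Ne, CharP.cast_eq_zero_iff k p]
          exact fun h => absurd (Nat.le_of_dvd (by omega) h) (by omega)
        rw [Submodule.smul_mem_iff _ hnk] at hz
        exact hind.notMem_span_image (s := {i : Fin j | (i : ℕ) < j - 1}) (x := ⟨j - 1, by omega⟩) (by simp) hz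
  · set X : B := 1 + l • t with hXdef
    have hXg : IsGroupLikeElem k X := by
      refine ⟨by simp [hXdef, hε], ?_⟩
      rw [hXdef, map_add, Bialgebra.comul_one, map_smul, hΔ]
      simp only [add_tmul, tmul_add, smul_tmul', tmul_smul, smul_add, smul_smul, Algebra.TensorProduct.one_def]
      abel
    have hXne : X ≠ 1 := fun e => ht0 (by
      have : l • t = 0 := by simpa [hXdef] using e
      rw [smul_eq_zero] at this
      exact this.resolve_left hl)
    have hord : orderOf X = p := by
      rcases hp.eq_one_or_self_of_dvd _ (orderOf_dvd_of_pow_eq_one hX) with h | h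
      · exact absurd (orderOf_eq_one_iff.1 h) hXne
      · exact h
    have hpow : ∀ i : ℕ, IsGroupLikeElem k (X ^ i) := fun i => by
      induction i with
      | zero => rw [pow_zero]; exact IsGroupLikeElem.one
      | succ i ih => rw [pow_succ]; exact ih.mul hXg
    let f : Fin p → GroupLike k B := fun i => ⟨X ^ (i : ℕ), hpow i⟩
    have hf : Function.Injective f := fun i j e => Fin.ext <| by
      have e' : X ^ (i : ℕ) = X ^ (j : ℕ) := congrArg GroupLike.val e
      exact pow_injOn_Iio_orderOf (x := X) (by simp [hord, i.isLt]) (by simp [hord, j.isLt]) e'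
    have hXi : LinearIndependent k fun i : Fin p => X ^ (i : ℕ) :=
      (linearIndep_groupLikeVal (R := k) (A := B)).comp f hf
    have hsub : Submodule.span k (Set.range fun i : Fin p => X ^ (i : ℕ)) ≤
        Submodule.span k (Set.range fun i : Fin p => t ^ (i : ℕ)) := by
      rw [Submodule.span_le]
      rintro _ ⟨i, rfl⟩
      show (1 + l • t) ^ (i : ℕ) ∈ Submodule.span k (Set.range fun i : Fin p => t ^ (i : ℕ))
      rw [add_comm, add_pow]
      refine Submodule.sum_mem _ fun s hs => ?_
      rw [smul_pow, one_pow, mul_one, ← nsmul_eq_mul']
      have hmem : t ^ s ∈ Submodule.span k (Set.range fun i : Fin p => t ^ (i : ℕ)) :=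
        Submodule.subset_span ⟨⟨s, by have := Finset.mem_range.1 hs; omega⟩, rfl⟩
      exact nsmul_mem (Submodule.smul_mem _ _ hmem) _
    rw [linearIndependent_iff_card_le_finrank_span]
    refine le_trans (le_of_eq (linearIndependent_iff_card_eq_finrank_span.1 hXi)) ?_
    haveI := Module.Finite.span_of_finite k (Set.finite_range fun i : Fin p => t ^ (i : ℕ))
    exact Submodule.finrank_mono hsub

end SekSuwaOrd
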