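import Groth.Agent.SekSuwaOrd.Order
import Groth.Agent.HopfFFLib.Injective
import Groth.Agent.CartExactLib.Fibres

/-! Extensions of `G_{μ,1}` by `G_{λ,1}`: the algebraic part. -/

set_option autoImplicit false
set_option linter.all false
set_option backward.isDefEq.respectTransparency false
set_option backward.isDefEq.respectTransparency.types false
set_option maxHeartbeats 3200000
set_option synthInstance.maxHeartbeats 400000

noncomputable section

open TensorProduct Coalgebra Module WithConv

universe u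

namespace SekSuwaOrd

variable {R : Type u} [CommRing R] [IsDomain R] [IsDiscreteValuationRing R]

/-- The power basis of `G_{λ,1}`. -/
theorem exists_basis_AK {p : ℕ} [hp : Fact p.Prime] {lam : R} (h : SekSuwa.DivCond lam p) :
    ∃ b : Basis (Fin p) R (SekSuwa.AK R lam p h), ∀ i, b i = SekSuwa.AK.t ^ (i : ℕ) := by
  let e := Groth.Agent.S14694.equiv h hp.out.pos
  let pb := AdjoinRoot.powerBasis' (Groth.Agent.S14694.monic_psi h hp.out.pos)
  have hdim : pb.dim = p := Groth.Agent.S14694.natDegree_psi h hp.out.pos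
  refine ⟨(pb.basis.map e.symm.toLinearEquiv).reindex (finCongr hdim), fun i => ?_⟩
  rw [Basis.reindex_apply, Basis.map_apply, PowerBasis.basis_eq_pow,
    show pb.gen = AdjoinRoot.root _ from AdjoinRoot.powerBasis'_gen _]
  show e.symm (_ ^ _) = _
  rw [map_pow, show e.symm (AdjoinRoot.root _) = SekSuwa.AK.t from Groth.Agent.S14694.ofRoot_root h]
  rfl

variable {A : Type u} [CommRing A]

/-- A homomorphism from `G_{λ,1}` injective on the special fibre is faithfully flat. -/
theorem faithfullyFlat_of_li [HopfAlgebra R A] [Module.Free R A] [Module.Finite R A] {p : ℕ} [hp : Fact p.Prime]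
    {lam : R} {h : SekSuwa.DivCond lam p} (ψ : SekSuwa.AK R lam p h →ₐc[R] A)
    (hli : LinearIndependent (IsLocalRing.ResidueField R)
      fun i : Fin p => ((1 : IsLocalRing.ResidueField R) ⊗ₜ[R] ψ SekSuwa.AK.t) ^ (i : ℕ)) :
    (ψ : SekSuwa.AK R lam p h →+* A).FaithfullyFlat := by
  classical
  let B := SekSuwa.AK R lam p h
  obtain ⟨b, hb⟩ := exists_basis_AK h
  haveI : Module.Free R B := Module.Free.of_basis b
  haveI : Module.Finite R B := Module.Finite.of_basis b
  let ψa : B →ₐ[R] A := ψ
  letI : Algebra B A := ψa.toRingHom.toAlgebra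
  haveI : IsScalarTower R B A := IsScalarTower.of_algebraMap_eq fun r => (ψa.commutes r).symm
  let k := IsLocalRing.ResidueField R
  let F : k ⊗[R] B →ₐc[k] k ⊗[R] A := Bialgebra.TensorProduct.map (BialgHom.id k k) ψ
  have hFt : ∀ x : B, F (1 ⊗ₜ x) = 1 ⊗ₜ ψ x := fun x => rfl
  have hF : Function.Injective F := by
    let F' : k ⊗[R] B →ₗ[k] k ⊗[R] A := (F : k ⊗[R] B →ₐ[k] k ⊗[R] A).toLinearMap
    have hli' : LinearIndependent k (F' ∘ Algebra.TensorProduct.basis k b) := by
      convert hli using 1
      funext i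
      show F _ = _
      rw [Algebra.TensorProduct.basis_apply, hFt, hb, map_pow, Algebra.TensorProduct.tmul_pow, one_pow]
    show Function.Injective F'
    rw [← LinearMap.ker_eq_bot, LinearMap.ker_eq_bot']
    intro y hy
    rw [← (Algebra.TensorProduct.basis k b).sum_repr y] at hy ⊢
    simp only [map_sum, map_smul] at hy
    have := Fintype.linearIndependent_iff.1 hli' _ hy
    exact Finset.sum_eq_zero fun i _ => by rw [this i, zero_smul]
  haveI : Module.Flat B A := by
    refine CartExactLib.flat_of_fibres R B A fun m hm => ?_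
    obtain rfl := IsLocalRing.eq_maximalIdeal hm
    show (Algebra.TensorProduct.map (AlgHom.id R k) (IsScalarTower.toAlgHom R B A)).toRingHom.Flat
    have e : (Algebra.TensorProduct.map (AlgHom.id R k) (IsScalarTower.toAlgHom R B A)).toRingHom =
        (F : k ⊗[R] B →+* k ⊗[R] A) := by
      refine RingHom.ext fun z => ?_
      induction z using TensorProduct.induction_on with
      | zero => simp
      | add z w hz hw => simp only [map_add, hz, hw]
      | tmul c x => rfl
    rw [e]
    exact (Groth.Agent.HopfFF.faithfullyFlat_of_injective F hF).flat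
  have hinj : Function.Injective ψa := by
    have h1 : LinearIndependent R fun i : ULift.{u} (Fin p) => ψa (b i.down) := by
      refine IsLocalRing.linearIndependent_of_flat _ ?_
      convert hli.comp ULift.down ULift.down_injective using 1
      funext i
      show (1 : k) ⊗ₜ[R] ψa (b i.down) = _
      rw [hb, map_pow]
      show _ = ((1 : k) ⊗ₜ[R] ψa SekSuwa.AK.t) ^ (i.down : ℕ)
      rw [Algebra.TensorProduct.tmul_pow, one_pow]
    rw [injective_iff_map_eq_zero]
    intro y hy
    rw [← b.sum_repr y] at hy ⊢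
    simp only [map_sum, map_smul] at hy
    have := Fintype.linearIndependent_iff.1 (h1.comp ULift.up ULift.up_injective) _ hy
    exact Finset.sum_eq_zero fun i _ => by rw [this i, zero_smul]
  haveI : Algebra.IsIntegral B A := Algebra.IsIntegral.tower_top (R := R)
  refine RingHom.FaithfullyFlat.iff_flat_and_comap_surjective.2 ⟨RingHom.flat_algebraMap_iff.2 ‹_›, ?_⟩
  exact (Algebra.IsIntegral.isIntegral (R := B) (A := A) |> fun H =>
    (RingHom.IsIntegral.comap_surjective (f := algebraMap B A) H hinj))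

variable {K : Type u} [Field K] [Algebra R K] [IsFractionRing R K]

theorem exists_ext [HopfAlgebra R A] [Module.Free R A] [Module.Finite R A] (p : ℕ) [hp : Fact p.Prime]
    [CharP (IsLocalRing.ResidueField R) p] (ζ : R) (hζ : IsPrimitiveRoot ζ p)
    {M : Type} [Group M] [Fintype M] (χ : M → (A →ₐ[R] K))
    (hmul : ∀ m n, toConv (χ (m * n)) = toConv (χ m) * toConv (χ n)) (hbij : Function.Bijective (evalPts χ))
    (q : M →* Multiplicative (ZMod p)) (hq : Function.Surjective q) (ι : Multiplicative (ZMod p) →* M)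
    (hι : Function.Injective ι) (hιq : ∀ m, q m = 1 ↔ ∃ j, ι j = m) :
    ∃ (lam mu : R) (h₁ : SekSuwa.DivCond lam p) (h₂ : SekSuwa.DivCond mu p)
      (π : A →ₐc[R] SekSuwa.AK R lam p h₁) (ψ : SekSuwa.AK R mu p h₂ →ₐc[R] A),
      lam ≠ 0 ∧ mu ≠ 0 ∧ (ψ : SekSuwa.AK R mu p h₂ →+* A).FaithfullyFlat ∧ Function.Surjective π ∧
        ∀ a, π a = 0 ↔ a ∈ Ideal.span {ψ SekSuwa.AK.t} := by
  classical
  have hinjR : Function.Injective (algebraMap R K) := IsFractionRing.injective R K
  haveI : Fact (1 < p) := ⟨hp.out.one_lt⟩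
  have hζK : (algebraMap R K ζ) ^ p = 1 := by rw [← map_pow, hζ.pow_eq_one, map_one]
  have hζK' : IsPrimitiveRoot (algebraMap R K ζ) p := hζ.map_of_injective hinjR
  let f : M → K := fun m => algebraMap R K ζ ^ (Multiplicative.toAdd (q m)).val
  have hfmul : ∀ m n, f (m * n) = f m * f n := fun m n => by
    simp only [f, ← pow_add, map_mul, show Multiplicative.toAdd (q m * q n) = Multiplicative.toAdd (q m) + Multiplicative.toAdd (q n) from rfl]
    rw [pow_eq_pow_mod ((Multiplicative.toAdd (q m)).val + (Multiplicative.toAdd (q n)).val) hζK, ZMod.val_add]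
  have hf1 : ∀ m, f m = 1 ↔ q m = 1 := fun m => by
    constructor
    · intro e
      have h0 : (Multiplicative.toAdd (q m)).val = 0 := by
        by_contra hne
        exact hζK'.pow_ne_one_of_pos_of_lt hne (ZMod.val_lt _) e
      exact Multiplicative.toAdd.injective ((ZMod.val_eq_zero _).1 h0)
    · intro e
      simp [f, e]
  obtain ⟨X, hχX, hXΔ, hεX, hXp⟩ := exists_groupLike χ hmul hbij p f ((hf1 1).2 (map_one q)) hfmul
    (fun m => by simp only [f]; rw [← pow_mul, mul_comm, pow_mul, hζK, one_pow])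
  obtain ⟨m₁, hm₁⟩ := hq (Multiplicative.ofAdd 1)
  obtain ⟨mu, h₂, ψ, hmu, hXt, hli⟩ := exists_hom_of_groupLike p ζ hζ X hXΔ hεX hXp (χ m₁)
    (by rw [hχX]; simp [f, hm₁, ZMod.val_one])
  have hff := faithfullyFlat_of_li ψ hli
  let t : A := ψ SekSuwa.AK.t
  change X = 1 + mu • t at hXt
  have hXinv : X * X ^ (p - 1) = 1 := by rw [← pow_succ', Nat.sub_add_cancel hp.out.pos, hXp]
  have hεt : counit (R := R) t = 0 := by
    have := hεX
    rw [hXt, map_add, Bialgebra.counit_one, map_smul, add_eq_left, smul_eq_mul, mul_eq_zero] at this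
    exact this.resolve_left hmu
  have hΔt : comul (R := R) t = t ⊗ₜ 1 + 1 ⊗ₜ t + mu • (t ⊗ₜ[R] t) := by
    show comul (R := R) (ψ SekSuwa.AK.t) = _
    rw [← CoalgHomClass.map_comp_comul_apply, SekSuwa.AK.comul_t]
    simp [t]
  -- the kernel
  let I : Ideal A := Ideal.span {t}
  have ht0 : Ideal.Quotient.mkₐ R I t = 0 := Ideal.Quotient.eq_zero_iff_mem.mpr (Ideal.subset_span rfl)
  have hco : (I.restrictScalars R).IsCoideal := by
    refine Submodule.IsCoideal.mk ?_ ?_
    · intro z hz
      obtain ⟨a, rfl⟩ := Ideal.mem_span_singleton'.mp hz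
      change counit (R := R) (a * t) = 0
      rw [Bialgebra.counit_mul, hεt, mul_zero]
    · intro z hz
      obtain ⟨a, rfl⟩ := Ideal.mem_span_singleton'.mp hz
      have hmk : (Submodule.restrictScalars R I).mkQ = (Ideal.Quotient.mkₐ R I).toLinearMap := rfl
      rw [hmk]
      change Algebra.TensorProduct.map (Ideal.Quotient.mkₐ R I) (Ideal.Quotient.mkₐ R I)
          (Bialgebra.comulAlgHom R A (a * t)) = 0
      rw [map_mul, map_mul]
      change _ * Algebra.TensorProduct.map _ _ (comul (R := R) t) = 0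
      rw [hΔt, map_add, map_add, map_smul, Algebra.TensorProduct.map_tmul, Algebra.TensorProduct.map_tmul,
        Algebra.TensorProduct.map_tmul, ht0]
      simp
  haveI : (I.restrictScalars R).IsCoideal := hco
  let C := A ⧸ I
  let mk : A →ₐc[R] C := Bialgebra.Quotient.mkBialgHom I
  have hmk : Function.Surjective mk := Ideal.Quotient.mk_surjective
  haveI : Module.Finite R C := Module.Finite.of_surjective (Ideal.Quotient.mkₐ R I).toLinearMap hmk
  -- flatness
  let B := SekSuwa.AK R mu p h₂
  let ψa : B →ₐ[R] A := ψ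
  letI : Algebra B A := ψa.toRingHom.toAlgebra
  haveI : IsScalarTower R B A := IsScalarTower.of_algebraMap_eq fun r => (ψa.commutes r).symm
  haveI : Module.Flat B A := RingHom.flat_algebraMap_iff.1 hff.flat
  let J : Ideal B := Ideal.span {SekSuwa.AK.t}
  have hJ : ∀ y : B, Ideal.Quotient.mkₐ R J y = algebraMap R (B ⧸ J) (counit (R := R) y) := by
    have h0 : Ideal.Quotient.mkₐ R J SekSuwa.AK.t = 0 := Ideal.Quotient.eq_zero_iff_mem.mpr (Ideal.subset_span rfl)
    have h1 : Ideal.Quotient.mkₐ R J SekSuwa.AK.inv = 1 := by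
      have e1 : (1 + mu • (SekSuwa.AK.t : B)) * SekSuwa.AK.inv = 1 := by
        have := congrArg (SekSuwa.AK.mkHom R mu p h₂) (SekSuwa.A.u_mul_inv (R := R) (lam := mu))
        rw [map_mul, map_one, SekSuwa.A.u, map_add, map_one, map_smul] at this
        exact this
      have := congrArg (Ideal.Quotient.mkₐ R J) e1
      rwa [map_mul, map_one, map_add, map_one, map_smul, h0, smul_zero, add_zero, one_mul] at this
    have e : Ideal.Quotient.mkₐ R J = (Algebra.ofId R (B ⧸ J)).comp (Bialgebra.counitAlgHom R B) := by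
      apply SekSuwa.AK.algHom_ext
      · rw [h0]; show 0 = algebraMap R (B ⧸ J) (counit (R := R) (SekSuwa.AK.t : B)); rw [SekSuwa.AK.counit_t, map_zero]
      · rw [h1]; show 1 = algebraMap R (B ⧸ J) (counit (R := R) (SekSuwa.AK.inv : B)); rw [SekSuwa.AK.counit_inv, map_one]
    exact fun y => DFunLike.congr_fun e y
  have hreg : ∀ r : R, r ≠ 0 → IsSMulRegular (B ⧸ J) (algebraMap R B r) := by
    intro r hr
    rw [isSMulRegular_iff_right_eq_zero_of_smul]
    intro z hz
    obtain ⟨y, rfl⟩ := Ideal.Quotient.mk_surjective z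
    have h0 : Ideal.Quotient.mk J (algebraMap R B r * y) = 0 := hz
    rw [Ideal.Quotient.eq_zero_iff_mem] at h0
    have hε : counit (R := R) (algebraMap R B r * y) = 0 := by
      obtain ⟨c, hc⟩ := Ideal.mem_span_singleton'.mp h0
      rw [← hc, Bialgebra.counit_mul, SekSuwa.AK.counit_t, mul_zero]
    rw [Bialgebra.counit_mul, Bialgebra.counit_algebraMap, mul_eq_zero] at hε
    show Ideal.Quotient.mkₐ R J y = 0
    rw [hJ, hε.resolve_left hr, map_zero]
  have hJI : J.map (algebraMap B A) = I := by
    rw [Ideal.map_span, Set.image_singleton]; rfl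
  haveI : Module.IsTorsionFree R C := ⟨fun r hr => by
    have h1 := (hreg r hr.ne_zero).lTensor A
    rw [LinearEquiv.isSMulRegular_congr (TensorProduct.tensorQuotEquivQuotSMul A J)] at h1
    rw [isSMulRegular_iff_right_eq_zero_of_smul]
    intro z hz
    obtain ⟨a, rfl⟩ := Ideal.Quotient.mk_surjective z
    have ha : algebraMap R B r • a ∈ (J • ⊤ : Submodule B A) := by
      rw [Ideal.smul_top_eq_map, Submodule.restrictScalars_mem, hJI, algebraMap_smul]
      exact Ideal.Quotient.eq_zero_iff_mem.1 hz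
    have h2 := h1.right_eq_zero_of_smul (x := Submodule.Quotient.mk a) ((Submodule.Quotient.mk_eq_zero _).2 ha)
    rw [Submodule.Quotient.mk_eq_zero, Ideal.smul_top_eq_map, Submodule.restrictScalars_mem, hJI] at h2
    exact Ideal.Quotient.eq_zero_iff_mem.2 h2⟩
  haveI : Module.Free R C := Module.free_of_finite_type_torsion_free'
  -- the points of the kernel
  have hχt : ∀ m, algebraMap R K mu * χ m t = f m - 1 := fun m => by
    rw [← hχX m, hXt, map_add, map_one, map_smul, add_sub_cancel_left, Algebra.smul_def]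
  have hmuK : algebraMap R K mu ≠ 0 := fun e => hmu (hinjR (e.trans (map_zero _).symm))
  have hχι : ∀ j, χ (ι j) t = 0 := fun j => by
    have := hχt (ι j)
    rw [(hf1 _).2 ((hιq _).2 ⟨j, rfl⟩), sub_self, mul_eq_zero] at this
    exact this.resolve_left hmuK
  let χC : Multiplicative (ZMod p) → (C →ₐ[R] K) := fun j => Ideal.Quotient.liftₐ I (χ (ι j)) fun a ha => by
    obtain ⟨c, rfl⟩ := Ideal.mem_span_singleton'.mp ha
    rw [map_mul, hχι, mul_zero]
  have hχC : ∀ j, (χC j).comp (mk : A →ₐ[R] C) = χ (ι j) := fun j => AlgHom.ext fun a => rfl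
  have hmulC : ∀ i j, toConv (χC (i * j)) = toConv (χC i) * toConv (χC j) := fun i j => by
    apply WithConv.ext
    apply AlgHom.ext
    intro z
    obtain ⟨a, rfl⟩ := hmk z
    have e := AlgHom.convMul_comp_bialgHom_distrib (toConv (χC i)) (toConv (χC j)) mk
    simp only [ofConv_toConv, hχC] at e
    rw [← hmul, ← map_mul] at e
    simp only [ofConv_toConv] at e ⊢
    exact (DFunLike.congr_fun (hχC (i * j)) a).trans (DFunLike.congr_fun e a).symm
  let G : K ⊗[R] A →ₐ[K] K ⊗[R] C := Algebra.TensorProduct.map (AlgHom.id K K) (mk : A →ₐ[R] C)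
  have hG : ∀ y j, evalPts χC (G y) j = evalPts χ y (ι j) := by
    intro y j
    induction y using TensorProduct.induction_on with
    | zero => simp
    | add y z hy hz => simp only [map_add, Pi.add_apply, hy, hz]
    | tmul c a =>
      show evalPts χC (c ⊗ₜ mk a) j = _
      rw [evalPts_tmul, evalPts_tmul]
      rfl
  have hbijC : Function.Bijective (evalPts χC) := by
    constructor
    · rw [injective_iff_map_eq_zero]
      intro z
      obtain ⟨y, rfl⟩ : ∃ y, G y = z := by
        induction z using TensorProduct.induction_on with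
        | zero => exact ⟨0, map_zero _⟩
        | tmul c a => obtain ⟨a, rfl⟩ := hmk a; exact ⟨c ⊗ₜ a, rfl⟩
        | add z w hz hw => obtain ⟨y, rfl⟩ := hz; obtain ⟨y', rfl⟩ := hw; exact ⟨y + y', map_add _ _ _⟩
      intro hz
      obtain ⟨w, hw⟩ := hbij.2 fun m => if χ m t = 0 then 0 else evalPts χ y m / χ m t
      have hy : y = ((1 : K) ⊗ₜ t) * w := by
        refine hbij.1 (funext fun m => ?_)
        rw [map_mul, Pi.mul_apply, hw, evalPts_tmul, one_mul]
        beta_reduce
        by_cases htm : χ m t = 0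
        · rw [if_pos htm, mul_zero]
          have h1 : f m = 1 := by rw [← sub_eq_zero, ← hχt, htm, mul_zero]
          obtain ⟨j, rfl⟩ := (hιq m).1 ((hf1 m).1 h1)
          rw [← hG, hz]; rfl
        · rw [if_neg htm, mul_div_cancel₀ _ htm]
      rw [hy, map_mul]
      show ((1 : K) ⊗ₜ[R] (Ideal.Quotient.mkₐ R I t)) * _ = 0
      rw [ht0, TensorProduct.tmul_zero, zero_mul]
    · intro g
      obtain ⟨y, hy⟩ := hbij.2 (Function.extend ι g 0)
      exact ⟨G y, funext fun j => by rw [hG, hy, hι.extend_apply]⟩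
  obtain ⟨lam, h₁, φ, hlam, hφ⟩ := exists_bialgHom p ζ hζ χC hmulC hbijC
  let e := BialgEquiv.ofBijective φ hφ
  let π : A →ₐc[R] SekSuwa.AK R lam p h₁ := (e.symm : C →ₐc[R] SekSuwa.AK R lam p h₁).comp mk
  refine ⟨lam, mu, h₁, h₂, π, ψ, hlam, hmu, hff, e.symm.surjective.comp hmk, fun a => ?_⟩
  constructor
  · intro h0
    exact Ideal.Quotient.eq_zero_iff_mem.1 ((map_eq_zero_iff _ e.symm.injective).1 h0)
  · intro h0
    show e.symm (mk a) = 0
    rw [show mk a = 0 from Ideal.Quotient.eq_zero_iff_mem.2 h0, map_zero]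

end SekSuwaOrd
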