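import Groth.Agent.SekSuwaOrd.Alg
import Groth.Agent.S14694
import Groth.Prelude.Def_SekSuwa2

/-! Finite flat Hopf algebras with generic fibre a constant group of prime order. -/

set_option autoImplicit false
set_option linter.all false
set_option backward.isDefEq.respectTransparency false
set_option maxHeartbeats 1600000

noncomputable section

open TensorProduct Coalgebra Module WithConv

universe u

namespace SekSuwaOrd

variable {R : Type u} [CommRing R] [IsDomain R] {A : Type u} [CommRing A]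

theorem divCond_of_dvd {p : ℕ} [hp : Fact p.Prime] {ζ lam : R} (hζ : IsPrimitiveRoot ζ p) (hl : lam ≠ 0)
    (hd : lam ∣ ζ - 1) : SekSuwa.DivCond lam p := by
  obtain ⟨n, rfl⟩ := Nat.exists_eq_succ_of_ne_zero hp.out.ne_zero
  have hdp : lam ^ n ∣ (((n + 1 : ℕ)) : R) := by
    rw [show (((n + 1 : ℕ)) : R) = ∏ k ∈ Finset.range n, (1 - ζ ^ (k + 1)) by
      rw [hζ.prod_one_sub_pow_eq_order]; push_cast; rfl]
    conv_lhs => rw [← Finset.card_range n, ← Finset.prod_const]
    refine Finset.prod_dvd_prod_of_dvd _ _ fun k _ => ?_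
    rw [← neg_sub, dvd_neg]
    exact hd.trans (sub_one_dvd_pow_sub_one ζ (k + 1))
  refine ⟨mem_nonZeroDivisors_of_ne_zero hl, ?_⟩
  have h2 : (1 + Polynomial.C lam * Polynomial.X : Polynomial R) ^ (n + 1) =
      ((Polynomial.X + 1) ^ (n + 1)).comp (Polynomial.C lam * Polynomial.X) := by
    simp [add_comm]
  have hdvd : Polynomial.C (lam ^ (n + 1)) ∣ (1 + Polynomial.C lam * Polynomial.X) ^ (n + 1) - 1 := by
    rw [Polynomial.C_dvd_iff_dvd_coeff]
    intro k
    simp only [Polynomial.coeff_sub, h2, Polynomial.comp_C_mul_X_coeff, Polynomial.coeff_X_add_one_pow,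
      Polynomial.coeff_one]
    rcases Nat.eq_zero_or_pos k with rfl | hk
    · simp
    rw [if_neg hk.ne', sub_zero]
    rcases lt_or_ge k (n + 1) with hlt | hge
    · refine (pow_dvd_pow lam (show n + 1 ≤ n + k by omega)).trans ?_
      rw [pow_add]
      exact mul_dvd_mul (hdp.trans (Nat.cast_dvd_cast (hp.out.dvd_choose_self hk.ne' hlt))) dvd_rfl
    · exact (pow_dvd_pow lam hge).trans (dvd_mul_left _ _)
  obtain ⟨P, hP⟩ := hdvd
  exact ⟨P, hP.symm⟩

variable [Bialgebra R A] {K : Type u} [Field K] [Algebra R K] [IsFractionRing R K]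

/-- The joint evaluation at a family of points. -/
def evalPts {M : Type} (χ : M → (A →ₐ[R] K)) : K ⊗[R] A →ₐ[K] (M → K) :=
  Algebra.TensorProduct.lift (Algebra.ofId K (M → K)) (Pi.algHom R _ χ) fun _ _ => Commute.all _ _

theorem evalPts_tmul {M : Type} (χ : M → (A →ₐ[R] K)) (c : K) (a : A) (m : M) :
    evalPts χ (c ⊗ₜ a) m = c * χ m a := by
  simp [evalPts, Algebra.ofId_apply]

theorem convMul_eq (f g : A →ₐ[R] K) (a : A) :
    (toConv f * toConv g).ofConv a = Algebra.TensorProduct.lift f g (fun _ _ => Commute.all _ _) (comul (R := R) a) := by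
  show (toConv f * toConv g : WithConv (A →ₐ[R] K)) a = _
  rw [AlgHom.convMul_apply]

variable [IsDiscreteValuationRing R] [Module.Free R A] [Module.Finite R A]

theorem finrank_eq_card {M : Type} [Fintype M] (χ : M → (A →ₐ[R] K)) (hbij : Function.Bijective (evalPts χ)) :
    finrank R A = Fintype.card M := by
  rw [← Module.finrank_baseChange (R := K), (LinearEquiv.ofBijective (evalPts χ).toLinearMap hbij).finrank_eq,
    Module.finrank_pi]

set_option maxHeartbeats 3200000 in
/-- Characters of the generic fibre are group-like elements of the order. -/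
theorem exists_groupLike {M : Type} [MulOneClass M] [Fintype M] (χ : M → (A →ₐ[R] K))
    (hmul : ∀ m n, toConv (χ (m * n)) = toConv (χ m) * toConv (χ n)) (hbij : Function.Bijective (evalPts χ))
    (p : ℕ) (f : M → K) (hf1 : f 1 = 1) (hfmul : ∀ m n, f (m * n) = f m * f n) (hfp : ∀ m, f m ^ p = 1) :
    ∃ X : A, (∀ m, χ m X = f m) ∧ comul (R := R) X = X ⊗ₜ[R] X ∧ counit (R := R) X = 1 ∧ X ^ p = 1 := by
  classical
  have hinjR : Function.Injective (algebraMap R K) := IsFractionRing.injective R K
  let b := Module.Free.chooseBasis R A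
  let bK := Algebra.TensorProduct.basis K b
  -- injectivity on `A` and on `A ⊗ A`
  have hinj1 : ∀ c : Module.Free.ChooseBasisIndex R A → K, (∀ m, ∑ i, c i * χ m (b i) = 0) → c = 0 := by
    intro c hc
    have h0 : ∑ i, c i • bK i = 0 := hbij.1 (by
      funext m
      simp [bK, TensorProduct.smul_tmul', evalPts_tmul, Finset.sum_apply, hc m])
    exact funext (Fintype.linearIndependent_iff.1 bK.linearIndependent c h0)
  have inj1 : ∀ x : A, (∀ m, χ m x = 0) → x = 0 := by
    intro x hx
    have h := hinj1 (fun i => algebraMap R K (b.repr x i)) fun m => by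
      conv_rhs => rw [← hx m, ← b.sum_repr x]
      simp [Algebra.smul_def]
    exact b.ext_elem fun i => hinjR (by simpa using congrFun h i)
  have inj2 : ∀ z : A ⊗[R] A, (∀ m n, Algebra.TensorProduct.lift (χ m) (χ n) (fun _ _ => Commute.all _ _) z = 0) → z = 0 := by
    intro z hz
    let c := (b.tensorProduct b).repr z
    have h : ∀ n i, ∑ j, algebraMap R K (c (i, j)) * χ n (b j) = 0 := by
      intro n
      refine congrFun (hinj1 _ fun m => ?_)
      conv_rhs => rw [← hz m n, ← (b.tensorProduct b).sum_repr z, Fintype.sum_prod_type]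
      simp only [map_sum, Finset.sum_mul, Basis.tensorProduct_apply]
      refine Finset.sum_congr rfl fun i _ => Finset.sum_congr rfl fun j _ => ?_
      rw [map_smul, Algebra.TensorProduct.lift_tmul, Algebra.smul_def]
      simp only [c, Algebra.algebraMap_self, RingHom.id_apply]
      ring
    refine (b.tensorProduct b).ext_elem fun ij => hinjR ?_
    rw [map_zero, Finsupp.zero_apply, map_zero]
    exact congrFun (hinj1 (fun j => algebraMap R K (c (ij.1, j))) fun m => h m ij.1) ij.2
  obtain ⟨z, hz⟩ := hbij.2 f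
  obtain ⟨⟨r, hr0⟩, hr⟩ := IsLocalization.exist_integer_multiples_of_finite (nonZeroDivisors R) (bK.repr z : _ → K)
  replace hr0 : r ≠ 0 := nonZeroDivisors.ne_zero hr0
  choose ri hri using hr
  let a : A := ∑ i, ri i • b i
  have ha : ∀ m, χ m a = algebraMap R K r * f m := by
    intro m
    conv_rhs => rw [← hz, ← bK.sum_repr z]
    simp only [a, map_sum, Finset.sum_apply, Finset.mul_sum]
    refine Finset.sum_congr rfl fun i _ => ?_
    rw [map_smul, Algebra.smul_def, hri, Algebra.smul_def]
    simp [bK, TensorProduct.smul_tmul', evalPts_tmul, mul_assoc]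
  have hra : r • comul (R := R) a = a ⊗ₜ[R] a := by
    rw [← sub_eq_zero]
    refine inj2 _ fun m n => ?_
    rw [map_sub, map_smul, Algebra.TensorProduct.lift_tmul, ← convMul_eq, ← hmul, ofConv_toConv, ha, ha, ha, hfmul,
      Algebra.smul_def]
    ring
  have hεa : counit (R := R) a = r := by
    have h := congrArg (fun z => TensorProduct.lid R A (LinearMap.rTensor A (counit (R := R)) z)) hra
    simp only [map_smul, Coalgebra.rTensor_counit_comul, TensorProduct.lid_tmul, LinearMap.rTensor_tmul, one_smul] at h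
    have ha0 : a ≠ 0 := fun e => by
      have := ha 1
      rw [e, map_zero, eq_comm, mul_eq_zero] at this
      rcases this with h | h
      · exact hr0 (hinjR (h.trans (map_zero _).symm))
      · rw [hf1] at h; exact one_ne_zero h
    exact (smul_left_injective R ha0 h).symm
  let Lmap : (A →ₗ[R] R) →ₗ[R] K :=
    (algebraMap R K r)⁻¹ • ((Algebra.linearMap R K) ∘ₗ LinearMap.applyₗ a)
  have hrK : algebraMap R K r ≠ 0 := fun e => hr0 (hinjR (e.trans (map_zero _).symm))
  have hLapp : ∀ φ : A →ₗ[R] R, Lmap φ = (algebraMap R K r)⁻¹ * algebraMap R K (φ a) := fun φ => rfl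
  let L : Subalgebra R K := (LinearMap.range Lmap).toSubalgebra
    ⟨counit, by rw [hLapp, hεa, inv_mul_cancel₀ hrK]⟩ (by
      rintro _ _ ⟨φ, rfl⟩ ⟨ψ, rfl⟩
      refine ⟨LinearMap.mul' R R ∘ₗ TensorProduct.map φ ψ ∘ₗ comul, ?_⟩
      have h := congrArg (fun z => LinearMap.mul' R R (TensorProduct.map φ ψ z)) hra
      simp only [map_smul, TensorProduct.map_tmul, LinearMap.mul'_apply, smul_eq_mul] at h
      rw [hLapp, hLapp, hLapp]
      have h' := congrArg (algebraMap R K) h
      simp only [map_mul] at h'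
      simp only [LinearMap.comp_apply]
      field_simp
      linear_combination h')
  have hL : Subalgebra.toSubmodule L = LinearMap.range Lmap := Submodule.toSubalgebra_toSubmodule ..
  have hdiv : ∀ i, r ∣ b.repr a i := by
    intro i
    have hmem : Lmap (b.coord i) ∈ L := by
      rw [← Subalgebra.mem_toSubmodule, hL]
      exact LinearMap.mem_range_self _ _
    obtain ⟨y, hy⟩ := IsIntegrallyClosed.isIntegral_iff.1 (IsIntegral.of_mem_of_fg L
      (by rw [hL, LinearMap.range_eq_map]; exact Submodule.FG.map _ Module.Finite.fg_top) _ hmem)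
    refine ⟨y, hinjR ?_⟩
    rw [map_mul, hy, hLapp, mul_inv_cancel_left₀ hrK]
    rfl
  choose xi hxi using hdiv
  let X : A := ∑ i, xi i • b i
  have haX : a = r • X := by
    conv_lhs => rw [← b.sum_repr a]
    simp only [X, Finset.smul_sum, hxi, mul_smul]
  have hχX : ∀ m, χ m X = f m := fun m => by
    have h := ha m
    rw [haX, map_smul, Algebra.smul_def] at h
    exact mul_left_cancel₀ hrK h
  have hXp : X ^ p = 1 := sub_eq_zero.1 (inj1 _ fun m => by
    rw [map_sub, map_pow, map_one, hχX, sub_eq_zero]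
    exact hfp m)
  have hXΔ : comul (R := R) X = X ⊗ₜ[R] X := sub_eq_zero.1 (inj2 _ fun m n => by
    rw [map_sub, Algebra.TensorProduct.lift_tmul, ← convMul_eq, ← hmul, ofConv_toConv, hχX, hχX, hχX, hfmul, sub_self])
  have hεX : counit (R := R) X = 1 := by
    have h := hεa
    rw [haX, map_smul, smul_eq_mul] at h
    exact mul_left_cancel₀ hr0 (h.trans (mul_one r).symm)
  exact ⟨X, hχX, hXΔ, hεX, hXp⟩

set_option maxHeartbeats 3200000 in
/-- A group-like element of order `p` defines a homomorphism from some `G_{λ,1}`, injective on the special fibre. -/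
theorem exists_hom_of_groupLike (p : ℕ) [hp : Fact p.Prime] [CharP (IsLocalRing.ResidueField R) p]
    (ζ : R) (hζ : IsPrimitiveRoot ζ p) (X : A) (hXΔ : comul (R := R) X = X ⊗ₜ[R] X) (hεX : counit (R := R) X = 1)
    (hXp : X ^ p = 1) (g : A →ₐ[R] K) (hg : g X = algebraMap R K ζ) :
    ∃ (lam : R) (h : SekSuwa.DivCond lam p) (ψ : SekSuwa.AK R lam p h →ₐc[R] A), lam ≠ 0 ∧
      X = 1 + lam • ψ SekSuwa.AK.t ∧
      LinearIndependent (IsLocalRing.ResidueField R)
        fun i : Fin p => ((1 : IsLocalRing.ResidueField R) ⊗ₜ[R] ψ SekSuwa.AK.t) ^ (i : ℕ) := by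
  classical
  have hinjR : Function.Injective (algebraMap R K) := IsFractionRing.injective R K
  let b := Module.Free.chooseBasis R A
  have hX1 : X - 1 ≠ 0 := fun e => hζ.ne_one hp.out.one_lt
    (hinjR (by rw [map_one, ← hg, sub_eq_zero.1 e, map_one]))
  -- the largest division
  obtain ⟨π, hπ⟩ := IsDiscreteValuationRing.exists_irreducible R
  have hex : ∃ (n : ℕ) (t : A), X - 1 = π ^ n • t ∧ ∀ s : A, t ≠ π • s := by
    by_contra hne
    push Not at hne
    have hall : ∀ n, ∃ t : A, X - 1 = π ^ n • t := fun n => by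
      induction n with
      | zero => exact ⟨X - 1, by simp⟩
      | succ n ih =>
        obtain ⟨t, ht⟩ := ih
        obtain ⟨s, hs⟩ := hne n t ht
        exact ⟨s, by rw [ht, hs, smul_smul, pow_succ]⟩
    obtain ⟨i, hi⟩ : ∃ i, b.repr (X - 1) i ≠ 0 := by
      by_contra hh
      push Not at hh
      exact hX1 (b.ext_elem fun i => by rw [hh i, map_zero, Finsupp.zero_apply])
    obtain ⟨n, w, hn⟩ := IsDiscreteValuationRing.eq_unit_mul_pow_irreducible hi hπ
    obtain ⟨t, ht⟩ := hall (n + 1)
    rw [ht, map_smul, Finsupp.smul_apply, smul_eq_mul, pow_succ, mul_assoc, mul_comm (w : R)] at hn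
    exact hπ.not_isUnit (isUnit_of_dvd_unit ⟨b.repr t i, (mul_left_cancel₀ (pow_ne_zero n hπ.ne_zero) hn).symm⟩ w.isUnit)
  obtain ⟨n, t, hXt, hmax⟩ := hex
  set lam := π ^ n with hlamdef
  have hlam : lam ≠ 0 := pow_ne_zero n hπ.ne_zero
  replace hXt : X = 1 + lam • t := by rw [← hXt]; ring
  have hdvd : lam ∣ ζ - 1 := by
    obtain ⟨y, hy⟩ := IsIntegrallyClosed.isIntegral_iff.1
      ((Algebra.IsIntegral.isIntegral (R := R) t).map g)
    refine ⟨y, hinjR ?_⟩
    rw [map_sub, map_one, map_mul, hy, ← hg, hXt, map_add, map_one, map_smul, Algebra.smul_def, add_sub_cancel_left]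
  have h : SekSuwa.DivCond lam p := divCond_of_dvd hζ hlam hdvd
  have hεt : counit (R := R) t = 0 := by
    have := hεX
    rw [hXt, map_add, Bialgebra.counit_one, map_smul, add_eq_left, smul_eq_mul, mul_eq_zero] at this
    exact this.resolve_left hlam
  have hΔt : comul (R := R) t = t ⊗ₜ 1 + 1 ⊗ₜ t + lam • (t ⊗ₜ[R] t) := by
    refine smul_right_injective (A ⊗[R] A) hlam (a₁ := comul (R := R) t) ?_
    have := hXΔ
    rw [hXt, map_add, Bialgebra.comul_one, map_smul] at this
    simp only [add_tmul, tmul_add, smul_tmul', tmul_smul, smul_add, smul_smul, Algebra.TensorProduct.one_def] at this ⊢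
    rw [add_assoc] at this
    refine (add_left_cancel this).trans ?_
    abel
  -- the special fibre
  let k := IsLocalRing.ResidueField R
  let bk := Algebra.TensorProduct.basis k b
  let l : k := algebraMap R k lam
  let tb : k ⊗[R] A := 1 ⊗ₜ t
  have htb : tb ≠ 0 := fun e => by
    have hc : ∀ i, π ∣ b.repr t i := fun i => by
      have := congrArg (fun z => bk.repr z i) e
      simp [tb, bk] at this
      rw [← Ideal.mem_span_singleton, ← hπ.maximalIdeal_eq]
      exact Ideal.Quotient.eq_zero_iff_mem.1 this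
    choose si hsi using hc
    refine hmax (∑ i, si i • b i) ?_
    conv_lhs => rw [← b.sum_repr t]
    simp only [Finset.smul_sum, hsi, mul_smul]
  have hεtb : counit (R := k) tb = 0 := by simp [tb, hεt]
  have hΔtb : comul (R := k) tb = tb ⊗ₜ 1 + 1 ⊗ₜ tb + l • (tb ⊗ₜ[k] tb) := by
    simp only [tb, TensorProduct.comul_tmul, CommSemiring.comul_apply, hΔt, tmul_add, map_add, tmul_smul, l,
      Algebra.TensorProduct.one_def]
    simp [TensorProduct.AlgebraTensorModule.tensorTensorTensorComm_tmul, algebraMap_smul]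
    rw [← algebraMap_smul k lam, map_smul, algebraMap_smul]
    rfl
  have hsmul : l • tb = (1 : k) ⊗ₜ[R] (lam • t) := by
    simp [l, tb, algebraMap_smul]
  have hXb : (1 + l • tb) ^ p = 1 := by
    rw [hsmul, Algebra.TensorProduct.one_def, ← tmul_add, ← hXt, Algebra.TensorProduct.tmul_pow, one_pow, hXp]
  have hli := linearIndependent_pow hp.out l tb htb hεtb hΔtb hXb
  -- the homomorphism
  have hpos : 0 < p := hp.out.pos
  have hrel : (1 + lam • t) * X ^ (p - 1) = 1 := by rw [← hXt, ← pow_succ', Nat.sub_add_cancel hpos, hXp]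
  have hPt : Polynomial.aeval t (SekSuwa.psiPoly lam p h) = 0 := by
    have e := SekSuwa.aeval_psiPoly h t
    rw [← Algebra.smul_def lam t, ← hXt, hXp, sub_self, ← Algebra.smul_def] at e
    exact (smul_eq_zero.1 e).resolve_left (pow_ne_zero p hlam)
  let φ₀ : SekSuwa.A R lam →ₐ[R] A := SekSuwa.A.lift R lam t (X ^ (p - 1)) hrel
  let φ : SekSuwa.AK R lam p h →ₐ[R] A := Ideal.Quotient.liftₐ (SekSuwa.kerIdeal lam p h) φ₀ fun a ha => by
    obtain ⟨c, rfl⟩ := Ideal.mem_span_singleton'.mp ha
    rw [map_mul, SekSuwa.kerGen, ← Polynomial.aeval_algHom_apply, SekSuwa.A.lift_t, hPt, mul_zero]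
  have hφt : φ SekSuwa.AK.t = t := SekSuwa.A.lift_t _ _ hrel
  have hφi : φ SekSuwa.AK.inv = X ^ (p - 1) := SekSuwa.A.lift_inv _ _ hrel
  have hΔXp : comul (R := R) (X ^ (p - 1)) = (X ^ (p - 1)) ⊗ₜ[R] (X ^ (p - 1)) := by
    rw [Bialgebra.comul_pow, hXΔ, Algebra.TensorProduct.tmul_pow]
  let ψ : SekSuwa.AK R lam p h →ₐc[R] A := BialgHom.ofAlgHom φ
    (by
      apply SekSuwa.AK.algHom_ext
      · simp [hφt, hεt, SekSuwa.AK.counit_t]
      · simp [hφi, hεX, SekSuwa.AK.counit_inv, Bialgebra.counit_pow])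
    (by
      apply SekSuwa.AK.algHom_ext
      · simp [hφt, hΔt, SekSuwa.AK.comul_t]
      · simp [hφi, hΔXp, SekSuwa.AK.comul_inv])
  refine ⟨lam, h, ψ, hlam, ?_, ?_⟩
  · show X = 1 + lam • φ SekSuwa.AK.t
    rw [hφt, ← hXt]
  · show LinearIndependent _ fun i : Fin p => ((1 : k) ⊗ₜ[R] φ SekSuwa.AK.t) ^ (i : ℕ)
    rw [hφt]
    exact hli

/-- A homomorphism from `G_{λ,1}` injective on the special fibre is bijective in rank `p`. -/
theorem bijective_of_rank (p : ℕ) [hp : Fact p.Prime] (lam : R) (h : SekSuwa.DivCond lam p)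
    (ψ : SekSuwa.AK R lam p h →ₐ[R] A) (hrk : finrank R A = p)
    (hli : LinearIndependent (IsLocalRing.ResidueField R)
      fun i : Fin p => ((1 : IsLocalRing.ResidueField R) ⊗ₜ[R] ψ SekSuwa.AK.t) ^ (i : ℕ)) :
    Function.Bijective ψ := by
  classical
  let k := IsLocalRing.ResidueField R
  let t := ψ SekSuwa.AK.t
  let tb : k ⊗[R] A := 1 ⊗ₜ t
  have hpos : 0 < p := hp.out.pos
  let bt : Basis (Fin p) k (k ⊗[R] A) := basisOfLinearIndependentOfCardEqFinrank hli
    (by rw [Fintype.card_fin, Module.finrank_baseChange, hrk])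
  have hspan : Submodule.span R (Set.range fun i : Fin p => t ^ (i : ℕ)) = ⊤ :=
    IsLocalRing.span_eq_top_of_tmul_eq_basis _ bt fun i => by
      haveI : Nonempty (Fin p) := ⟨i⟩
      rw [show bt i = tb ^ (i : ℕ) from congrFun (coe_basisOfLinearIndependentOfCardEqFinrank hli _) i]
      simp [tb, Algebra.TensorProduct.tmul_pow]
  have hindA : LinearIndependent R fun i : Fin p => t ^ (i : ℕ) :=
    linearIndependent_of_top_le_span_of_card_eq_finrank hspan.ge (by rw [Fintype.card_fin, hrk])
  constructor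
  · -- injectivity, through the monic presentation
    let e := Groth.Agent.S14694.equiv h hpos
    let pb := AdjoinRoot.powerBasis' (Groth.Agent.S14694.monic_psi h hpos)
    have hdim : pb.dim = p := Groth.Agent.S14694.natDegree_psi h hpos
    let φR : AdjoinRoot (SekSuwa.psiPoly lam p h) →ₐ[R] A := ψ.comp e.symm.toAlgHom
    have hroot : φR (AdjoinRoot.root _) = t := by
      show ψ (Groth.Agent.S14694.ofRoot h (AdjoinRoot.root _)) = t
      rw [Groth.Agent.S14694.ofRoot_root]
    have hinj : Function.Injective φR.toLinearMap := by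
      rw [← LinearMap.ker_eq_bot, LinearMap.ker_eq_bot']
      intro y hy
      rw [← pb.basis.sum_repr y] at hy ⊢
      simp only [map_sum, map_smul, AlgHom.toLinearMap_apply, PowerBasis.basis_eq_pow] at hy
      rw [show pb.gen = AdjoinRoot.root _ from AdjoinRoot.powerBasis'_gen _] at hy
      simp only [map_pow, hroot] at hy
      have hz := Fintype.linearIndependent_iff.1 (hindA.comp (Fin.cast hdim) (Fin.cast_injective _)) _ hy
      exact Finset.sum_eq_zero fun i _ => by rw [hz i, zero_smul]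
    intro x y hxy
    exact e.injective (hinj (by simpa [φR] using hxy))
  · intro x
    have hmem : x ∈ Submodule.span R (Set.range fun i : Fin p => t ^ (i : ℕ)) := hspan ▸ Submodule.mem_top
    obtain ⟨c, rfl⟩ := Submodule.mem_span_range_iff_exists_fun R |>.1 hmem
    refine ⟨∑ i, c i • SekSuwa.AK.t ^ (i : ℕ), ?_⟩
    simp [map_sum, map_smul, map_pow, t]


theorem exists_bialgHom (p : ℕ) [hp : Fact p.Prime] [CharP (IsLocalRing.ResidueField R) p]
    (ζ : R) (hζ : IsPrimitiveRoot ζ p) (χ : Multiplicative (ZMod p) → (A →ₐ[R] K))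
    (hmul : ∀ m n, toConv (χ (m * n)) = toConv (χ m) * toConv (χ n)) (hbij : Function.Bijective (evalPts χ)) :
    ∃ (lam : R) (h : SekSuwa.DivCond lam p) (ψ : SekSuwa.AK R lam p h →ₐc[R] A), lam ≠ 0 ∧ Function.Bijective ψ := by
  haveI : Fact (1 < p) := ⟨hp.out.one_lt⟩
  let M := Multiplicative (ZMod p)
  have hζK : (algebraMap R K ζ) ^ p = 1 := by rw [← map_pow, hζ.pow_eq_one, map_one]
  let f : M → K := fun m => algebraMap R K ζ ^ (Multiplicative.toAdd m).val
  have hfmul : ∀ m n, f (m * n) = f m * f n := fun m n => by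
    simp only [f, ← pow_add, show Multiplicative.toAdd (m * n) = Multiplicative.toAdd m + Multiplicative.toAdd n from rfl]
    rw [pow_eq_pow_mod ((Multiplicative.toAdd m).val + (Multiplicative.toAdd n).val) hζK, ZMod.val_add]
  obtain ⟨X, hχX, hXΔ, hεX, hXp⟩ := exists_groupLike χ hmul hbij p f (by simp [f]) hfmul
    (fun m => by simp only [f]; rw [← pow_mul, mul_comm, pow_mul, hζK, one_pow])
  obtain ⟨lam, h, ψ, hlam, -, hli⟩ := exists_hom_of_groupLike p ζ hζ X hXΔ hεX hXp (χ (Multiplicative.ofAdd 1))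
    (by rw [hχX]; simp [f, ZMod.val_one])
  refine ⟨lam, h, ψ, hlam, bijective_of_rank p lam h (ψ : SekSuwa.AK R lam p h →ₐ[R] A) ?_ hli⟩
  rw [finrank_eq_card χ hbij, Fintype.card_congr Multiplicative.toAdd, ZMod.card]

end SekSuwaOrd
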